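import Cfsg.Agent.Lib.Helper19.PresFi22
import Cfsg.Agent.Lib.Helper19.OrdFi22.U0C0
import Cfsg.Agent.Lib.Helper19.OrdFi22.U0C1

/-! Generated file: certificates for the order of a presented group. -/

set_option autoImplicit false
set_option maxRecDepth 1000000

namespace Cfsg.Agent.Lib.Helper19.OrdFi22.U0

open Cfsg.Agent.Lib.Helper19.TCS (evn evn_rot evn_rev evn_pair AllS forall_of_allS lift_rels mk_eq_lift cox_swap shapeI prod_rep index_of_equiv orbit_ncard orbit_image ncard_interval fix_of_closure RC)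
open Cfsg.Agent.Lib.Helper19.TC2
open Cfsg.Spor Cfsg.Agent.Lib.Helper19.PresFi22

theorem hsel : ∀ k < cert.LS.length, (sel cert.LS k).1 = k := by decide

theorem lf0 : (∀ p ∈ W0, p ∈ cert.LS) ∧ ev (fun k => el (jm [1, 2, 3, 4, 5, 6, 7, 8] k)) W0 = 1 :=
  leaf_okJ cert el [1, 2, 3, 4, 5, 6, 7, 8] hsel [7, 7] [8, 8] W0 rfl (by decide) rfl (evn_pair el el_sq 8)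

theorem lf1 : (∀ p ∈ W1, p ∈ cert.LS) ∧ ev (fun k => el (jm [1, 2, 3, 4, 5, 6, 7, 8] k)) W1 = 1 :=
  leaf_okJ cert el [1, 2, 3, 4, 5, 6, 7, 8] hsel [0, 7, 0, 7] [1, 8, 1, 8] W1 rfl (by decide) rfl (cox_one 1 8)

theorem lf2 : (∀ p ∈ W2, p ∈ cert.LS) ∧ ev (fun k => el (jm [1, 2, 3, 4, 5, 6, 7, 8] k)) W2 = 1 :=
  leaf_okJ cert el [1, 2, 3, 4, 5, 6, 7, 8] hsel [1, 7, 1, 7] [2, 8, 2, 8] W2 rfl (by decide) rfl (cox_one 2 8)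

theorem lf3 : (∀ p ∈ W3, p ∈ cert.LS) ∧ ev (fun k => el (jm [1, 2, 3, 4, 5, 6, 7, 8] k)) W3 = 1 :=
  leaf_okJ cert el [1, 2, 3, 4, 5, 6, 7, 8] hsel [2, 7, 2, 7] [3, 8, 3, 8] W3 rfl (by decide) rfl (cox_one 3 8)

theorem lf4 : (∀ p ∈ W4, p ∈ cert.LS) ∧ ev (fun k => el (jm [1, 2, 3, 4, 5, 6, 7, 8] k)) W4 = 1 :=
  leaf_okJ cert el [1, 2, 3, 4, 5, 6, 7, 8] hsel [3, 7, 3, 7] [4, 8, 4, 8] W4 rfl (by decide) rfl (cox_one 4 8)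

theorem lf5 : (∀ p ∈ W5, p ∈ cert.LS) ∧ ev (fun k => el (jm [1, 2, 3, 4, 5, 6, 7, 8] k)) W5 = 1 :=
  leaf_okJ cert el [1, 2, 3, 4, 5, 6, 7, 8] hsel [4, 7, 4, 7] [5, 8, 5, 8] W5 rfl (by decide) rfl (cox_one 5 8)

theorem lf6 : (∀ p ∈ W6, p ∈ cert.LS) ∧ ev (fun k => el (jm [1, 2, 3, 4, 5, 6, 7, 8] k)) W6 = 1 :=
  leaf_okJ cert el [1, 2, 3, 4, 5, 6, 7, 8] hsel [5, 7, 5, 7] [6, 8, 6, 8] W6 rfl (by decide) rfl (cox_one 6 8)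

theorem lf7 : (∀ p ∈ W7, p ∈ cert.LS) ∧ ev (fun k => el (jm [1, 2, 3, 4, 5, 6, 7, 8] k)) W7 = 1 :=
  leaf_okJ cert el [1, 2, 3, 4, 5, 6, 7, 8] hsel [6, 6] [7, 7] W7 rfl (by decide) rfl (evn_pair el el_sq 7)

theorem lf8 : (∀ p ∈ W8, p ∈ cert.LS) ∧ ev (fun k => el (jm [1, 2, 3, 4, 5, 6, 7, 8] k)) W8 = 1 :=
  leaf_okJ cert el [1, 2, 3, 4, 5, 6, 7, 8] hsel [0, 6, 0, 6] [1, 7, 1, 7] W8 rfl (by decide) rfl (cox_one 1 7)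

theorem lf9 : (∀ p ∈ W9, p ∈ cert.LS) ∧ ev (fun k => el (jm [1, 2, 3, 4, 5, 6, 7, 8] k)) W9 = 1 :=
  leaf_okJ cert el [1, 2, 3, 4, 5, 6, 7, 8] hsel [1, 6, 1, 6] [2, 7, 2, 7] W9 rfl (by decide) rfl (cox_one 2 7)

theorem lf10 : (∀ p ∈ W10, p ∈ cert.LS) ∧ ev (fun k => el (jm [1, 2, 3, 4, 5, 6, 7, 8] k)) W10 = 1 :=
  leaf_okJ cert el [1, 2, 3, 4, 5, 6, 7, 8] hsel [3, 6, 3, 6] [4, 7, 4, 7] W10 rfl (by decide) rfl (cox_one 4 7)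

theorem lf11 : (∀ p ∈ W11, p ∈ cert.LS) ∧ ev (fun k => el (jm [1, 2, 3, 4, 5, 6, 7, 8] k)) W11 = 1 :=
  leaf_okJ cert el [1, 2, 3, 4, 5, 6, 7, 8] hsel [4, 6, 4, 6] [5, 7, 5, 7] W11 rfl (by decide) rfl (cox_one 5 7)

theorem lf12 : (∀ p ∈ W12, p ∈ cert.LS) ∧ ev (fun k => el (jm [1, 2, 3, 4, 5, 6, 7, 8] k)) W12 = 1 :=
  leaf_okJ cert el [1, 2, 3, 4, 5, 6, 7, 8] hsel [5, 6, 5, 6] [6, 7, 6, 7] W12 rfl (by decide) rfl (cox_one 6 7)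

theorem lf13 : (∀ p ∈ W13, p ∈ cert.LS) ∧ ev (fun k => el (jm [1, 2, 3, 4, 5, 6, 7, 8] k)) W13 = 1 :=
  leaf_okJ cert el [1, 2, 3, 4, 5, 6, 7, 8] hsel [7, 6, 7, 6, 7, 6] [8, 7, 8, 7, 8, 7] W13 rfl (by decide) rfl (cox_one 8 7)

theorem lf14 : (∀ p ∈ W14, p ∈ cert.LS) ∧ ev (fun k => el (jm [1, 2, 3, 4, 5, 6, 7, 8] k)) W14 = 1 :=
  leaf_okJ cert el [1, 2, 3, 4, 5, 6, 7, 8] hsel [2, 2] [3, 3] W14 rfl (by decide) rfl (evn_pair el el_sq 3)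

theorem lf15 : (∀ p ∈ W15, p ∈ cert.LS) ∧ ev (fun k => el (jm [1, 2, 3, 4, 5, 6, 7, 8] k)) W15 = 1 :=
  leaf_okJ cert el [1, 2, 3, 4, 5, 6, 7, 8] hsel [0, 2, 0, 2] [1, 3, 1, 3] W15 rfl (by decide) rfl (cox_one 1 3)

theorem lf16 : (∀ p ∈ W16, p ∈ cert.LS) ∧ ev (fun k => el (jm [1, 2, 3, 4, 5, 6, 7, 8] k)) W16 = 1 :=
  leaf_okJ cert el [1, 2, 3, 4, 5, 6, 7, 8] hsel [4, 2, 4, 2] [5, 3, 5, 3] W16 rfl (by decide) rfl (cox_one 5 3)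

theorem lf17 : (∀ p ∈ W17, p ∈ cert.LS) ∧ ev (fun k => el (jm [1, 2, 3, 4, 5, 6, 7, 8] k)) W17 = 1 :=
  leaf_okJ cert el [1, 2, 3, 4, 5, 6, 7, 8] hsel [5, 2, 5, 2] [6, 3, 6, 3] W17 rfl (by decide) rfl (cox_one 6 3)

theorem lf18 : (∀ p ∈ W18, p ∈ cert.LS) ∧ ev (fun k => el (jm [1, 2, 3, 4, 5, 6, 7, 8] k)) W18 = 1 :=
  leaf_okJ cert el [1, 2, 3, 4, 5, 6, 7, 8] hsel [7, 2, 7, 2] [8, 3, 8, 3] W18 rfl (by decide) rfl (cox_one 8 3)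

theorem lf19 : (∀ p ∈ W19, p ∈ cert.LS) ∧ ev (fun k => el (jm [1, 2, 3, 4, 5, 6, 7, 8] k)) W19 = 1 :=
  leaf_okJ cert el [1, 2, 3, 4, 5, 6, 7, 8] hsel [6, 2, 6, 2, 6, 2] [7, 3, 7, 3, 7, 3] W19 rfl (by decide) rfl (cox_one 7 3)

theorem lf20 : (∀ p ∈ W20, p ∈ cert.LS) ∧ ev (fun k => el (jm [1, 2, 3, 4, 5, 6, 7, 8] k)) W20 = 1 :=
  leaf_okJ cert el [1, 2, 3, 4, 5, 6, 7, 8] hsel [1, 1] [2, 2] W20 rfl (by decide) rfl (evn_pair el el_sq 2)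

theorem lf21 : (∀ p ∈ W21, p ∈ cert.LS) ∧ ev (fun k => el (jm [1, 2, 3, 4, 5, 6, 7, 8] k)) W21 = 1 :=
  leaf_okJ cert el [1, 2, 3, 4, 5, 6, 7, 8] hsel [4, 1, 4, 1] [5, 2, 5, 2] W21 rfl (by decide) rfl (cox_one 5 2)

theorem lf22 : (∀ p ∈ W22, p ∈ cert.LS) ∧ ev (fun k => el (jm [1, 2, 3, 4, 5, 6, 7, 8] k)) W22 = 1 :=
  leaf_okJ cert el [1, 2, 3, 4, 5, 6, 7, 8] hsel [5, 1, 5, 1] [6, 2, 6, 2] W22 rfl (by decide) rfl (cox_one 6 2)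

theorem lf23 : (∀ p ∈ W23, p ∈ cert.LS) ∧ ev (fun k => el (jm [1, 2, 3, 4, 5, 6, 7, 8] k)) W23 = 1 :=
  leaf_okJ cert el [1, 2, 3, 4, 5, 6, 7, 8] hsel [6, 1, 6, 1] [7, 2, 7, 2] W23 rfl (by decide) rfl (cox_one 7 2)

theorem lf24 : (∀ p ∈ W24, p ∈ cert.LS) ∧ ev (fun k => el (jm [1, 2, 3, 4, 5, 6, 7, 8] k)) W24 = 1 :=
  leaf_okJ cert el [1, 2, 3, 4, 5, 6, 7, 8] hsel [7, 1, 7, 1] [8, 2, 8, 2] W24 rfl (by decide) rfl (cox_one 8 2)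

theorem lf25 : (∀ p ∈ W25, p ∈ cert.LS) ∧ ev (fun k => el (jm [1, 2, 3, 4, 5, 6, 7, 8] k)) W25 = 1 :=
  leaf_okJ cert el [1, 2, 3, 4, 5, 6, 7, 8] hsel [2, 1, 2, 1, 2, 1] [3, 2, 3, 2, 3, 2] W25 rfl (by decide) rfl (cox_one 3 2)

theorem lf26 : (∀ p ∈ W26, p ∈ cert.LS) ∧ ev (fun k => el (jm [1, 2, 3, 4, 5, 6, 7, 8] k)) W26 = 1 :=
  leaf_okJ cert el [1, 2, 3, 4, 5, 6, 7, 8] hsel [3, 3] [4, 4] W26 rfl (by decide) rfl (evn_pair el el_sq 4)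

theorem lf27 : (∀ p ∈ W27, p ∈ cert.LS) ∧ ev (fun k => el (jm [1, 2, 3, 4, 5, 6, 7, 8] k)) W27 = 1 :=
  leaf_okJ cert el [1, 2, 3, 4, 5, 6, 7, 8] hsel [0, 3, 0, 3] [1, 4, 1, 4] W27 rfl (by decide) rfl (cox_one 1 4)

theorem lf28 : (∀ p ∈ W28, p ∈ cert.LS) ∧ ev (fun k => el (jm [1, 2, 3, 4, 5, 6, 7, 8] k)) W28 = 1 :=
  leaf_okJ cert el [1, 2, 3, 4, 5, 6, 7, 8] hsel [5, 3, 5, 3] [6, 4, 6, 4] W28 rfl (by decide) rfl (cox_one 6 4)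

theorem lf29 : (∀ p ∈ W29, p ∈ cert.LS) ∧ ev (fun k => el (jm [1, 2, 3, 4, 5, 6, 7, 8] k)) W29 = 1 :=
  leaf_okJ cert el [1, 2, 3, 4, 5, 6, 7, 8] hsel [6, 3, 6, 3] [7, 4, 7, 4] W29 rfl (by decide) rfl (cox_one 7 4)

theorem lf30 : (∀ p ∈ W30, p ∈ cert.LS) ∧ ev (fun k => el (jm [1, 2, 3, 4, 5, 6, 7, 8] k)) W30 = 1 :=
  leaf_okJ cert el [1, 2, 3, 4, 5, 6, 7, 8] hsel [7, 3, 7, 3] [8, 4, 8, 4] W30 rfl (by decide) rfl (cox_one 8 4)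

theorem lf31 : (∀ p ∈ W31, p ∈ cert.LS) ∧ ev (fun k => el (jm [1, 2, 3, 4, 5, 6, 7, 8] k)) W31 = 1 :=
  leaf_okJ cert el [1, 2, 3, 4, 5, 6, 7, 8] hsel [2, 3, 2, 3, 2, 3] [3, 4, 3, 4, 3, 4] W31 rfl (by decide) rfl (cox_one 3 4)

theorem lf32 : (∀ p ∈ W32, p ∈ cert.LS) ∧ ev (fun k => el (jm [1, 2, 3, 4, 5, 6, 7, 8] k)) W32 = 1 :=
  leaf_okJ cert el [1, 2, 3, 4, 5, 6, 7, 8] hsel [0, 0] [1, 1] W32 rfl (by decide) rfl (evn_pair el el_sq 1)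

theorem lf33 : (∀ p ∈ W33, p ∈ cert.LS) ∧ ev (fun k => el (jm [1, 2, 3, 4, 5, 6, 7, 8] k)) W33 = 1 :=
  leaf_okJ cert el [1, 2, 3, 4, 5, 6, 7, 8] hsel [2, 0, 2, 0] [3, 1, 3, 1] W33 rfl (by decide) rfl (cox_one 3 1)

theorem lf34 : (∀ p ∈ W34, p ∈ cert.LS) ∧ ev (fun k => el (jm [1, 2, 3, 4, 5, 6, 7, 8] k)) W34 = 1 :=
  leaf_okJ cert el [1, 2, 3, 4, 5, 6, 7, 8] hsel [4, 0, 4, 0] [5, 1, 5, 1] W34 rfl (by decide) rfl (cox_one 5 1)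

theorem lf35 : (∀ p ∈ W35, p ∈ cert.LS) ∧ ev (fun k => el (jm [1, 2, 3, 4, 5, 6, 7, 8] k)) W35 = 1 :=
  leaf_okJ cert el [1, 2, 3, 4, 5, 6, 7, 8] hsel [5, 0, 5, 0] [6, 1, 6, 1] W35 rfl (by decide) rfl (cox_one 6 1)

theorem lf36 : (∀ p ∈ W36, p ∈ cert.LS) ∧ ev (fun k => el (jm [1, 2, 3, 4, 5, 6, 7, 8] k)) W36 = 1 :=
  leaf_okJ cert el [1, 2, 3, 4, 5, 6, 7, 8] hsel [6, 0, 6, 0] [7, 1, 7, 1] W36 rfl (by decide) rfl (cox_one 7 1)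

theorem lf37 : (∀ p ∈ W37, p ∈ cert.LS) ∧ ev (fun k => el (jm [1, 2, 3, 4, 5, 6, 7, 8] k)) W37 = 1 :=
  leaf_okJ cert el [1, 2, 3, 4, 5, 6, 7, 8] hsel [7, 0, 7, 0] [8, 1, 8, 1] W37 rfl (by decide) rfl (cox_one 8 1)

theorem lf38 : (∀ p ∈ W38, p ∈ cert.LS) ∧ ev (fun k => el (jm [1, 2, 3, 4, 5, 6, 7, 8] k)) W38 = 1 :=
  leaf_okJ cert el [1, 2, 3, 4, 5, 6, 7, 8] hsel [1, 0, 1, 0, 1, 0] [2, 1, 2, 1, 2, 1] W38 rfl (by decide) rfl (cox_one 2 1)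

theorem lf39 : (∀ p ∈ W39, p ∈ cert.LS) ∧ ev (fun k => el (jm [1, 2, 3, 4, 5, 6, 7, 8] k)) W39 = 1 :=
  leaf_okJ cert el [1, 2, 3, 4, 5, 6, 7, 8] hsel [1, 3, 1, 3] [2, 4, 2, 4] W39 rfl (by decide) rfl (cox_one 2 4)

theorem lf40 : (∀ p ∈ W40, p ∈ cert.LS) ∧ ev (fun k => el (jm [1, 2, 3, 4, 5, 6, 7, 8] k)) W40 = 1 :=
  leaf_okJ cert el [1, 2, 3, 4, 5, 6, 7, 8] hsel [4, 4] [5, 5] W40 rfl (by decide) rfl (evn_pair el el_sq 5)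

theorem lf41 : (∀ p ∈ W41, p ∈ cert.LS) ∧ ev (fun k => el (jm [1, 2, 3, 4, 5, 6, 7, 8] k)) W41 = 1 :=
  leaf_okJ cert el [1, 2, 3, 4, 5, 6, 7, 8] hsel [0, 4, 0, 4] [1, 5, 1, 5] W41 rfl (by decide) rfl (cox_one 1 5)

theorem lf42 : (∀ p ∈ W42, p ∈ cert.LS) ∧ ev (fun k => el (jm [1, 2, 3, 4, 5, 6, 7, 8] k)) W42 = 1 :=
  leaf_okJ cert el [1, 2, 3, 4, 5, 6, 7, 8] hsel [2, 4, 2, 4] [3, 5, 3, 5] W42 rfl (by decide) rfl (cox_one 3 5)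

theorem lf43 : (∀ p ∈ W43, p ∈ cert.LS) ∧ ev (fun k => el (jm [1, 2, 3, 4, 5, 6, 7, 8] k)) W43 = 1 :=
  leaf_okJ cert el [1, 2, 3, 4, 5, 6, 7, 8] hsel [6, 4, 6, 4] [7, 5, 7, 5] W43 rfl (by decide) rfl (cox_one 7 5)

theorem lf44 : (∀ p ∈ W44, p ∈ cert.LS) ∧ ev (fun k => el (jm [1, 2, 3, 4, 5, 6, 7, 8] k)) W44 = 1 :=
  leaf_okJ cert el [1, 2, 3, 4, 5, 6, 7, 8] hsel [7, 4, 7, 4] [8, 5, 8, 5] W44 rfl (by decide) rfl (cox_one 8 5)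

theorem lf45 : (∀ p ∈ W45, p ∈ cert.LS) ∧ ev (fun k => el (jm [1, 2, 3, 4, 5, 6, 7, 8] k)) W45 = 1 :=
  leaf_okJ cert el [1, 2, 3, 4, 5, 6, 7, 8] hsel [3, 4, 3, 4, 3, 4] [4, 5, 4, 5, 4, 5] W45 rfl (by decide) rfl (cox_one 4 5)

theorem lf46 : (∀ p ∈ W46, p ∈ cert.LS) ∧ ev (fun k => el (jm [1, 2, 3, 4, 5, 6, 7, 8] k)) W46 = 1 :=
  leaf_okJ cert el [1, 2, 3, 4, 5, 6, 7, 8] hsel [1, 2, 1, 2, 1, 2] [2, 3, 2, 3, 2, 3] W46 rfl (by decide) rfl (cox_one 2 3)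

theorem lf47 : (∀ p ∈ W47, p ∈ cert.LS) ∧ ev (fun k => el (jm [1, 2, 3, 4, 5, 6, 7, 8] k)) W47 = 1 :=
  leaf_okJ cert el [1, 2, 3, 4, 5, 6, 7, 8] hsel [3, 2, 3, 2, 3, 2] [4, 3, 4, 3, 4, 3] W47 rfl (by decide) rfl (cox_one 4 3)

theorem lf48 : (∀ p ∈ W48, p ∈ cert.LS) ∧ ev (fun k => el (jm [1, 2, 3, 4, 5, 6, 7, 8] k)) W48 = 1 :=
  leaf_okJ cert el [1, 2, 3, 4, 5, 6, 7, 8] hsel [1, 4, 1, 4] [2, 5, 2, 5] W48 rfl (by decide) rfl (cox_one 2 5)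

theorem lf49 : (∀ p ∈ W49, p ∈ cert.LS) ∧ ev (fun k => el (jm [1, 2, 3, 4, 5, 6, 7, 8] k)) W49 = 1 :=
  leaf_okJ cert el [1, 2, 3, 4, 5, 6, 7, 8] hsel [5, 5] [6, 6] W49 rfl (by decide) rfl (evn_pair el el_sq 6)

theorem lf50 : (∀ p ∈ W50, p ∈ cert.LS) ∧ ev (fun k => el (jm [1, 2, 3, 4, 5, 6, 7, 8] k)) W50 = 1 :=
  leaf_okJ cert el [1, 2, 3, 4, 5, 6, 7, 8] hsel [0, 5, 0, 5] [1, 6, 1, 6] W50 rfl (by decide) rfl (cox_one 1 6)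

theorem lf51 : (∀ p ∈ W51, p ∈ cert.LS) ∧ ev (fun k => el (jm [1, 2, 3, 4, 5, 6, 7, 8] k)) W51 = 1 :=
  leaf_okJ cert el [1, 2, 3, 4, 5, 6, 7, 8] hsel [2, 5, 2, 5] [3, 6, 3, 6] W51 rfl (by decide) rfl (cox_one 3 6)

theorem lf52 : (∀ p ∈ W52, p ∈ cert.LS) ∧ ev (fun k => el (jm [1, 2, 3, 4, 5, 6, 7, 8] k)) W52 = 1 :=
  leaf_okJ cert el [1, 2, 3, 4, 5, 6, 7, 8] hsel [3, 5, 3, 5] [4, 6, 4, 6] W52 rfl (by decide) rfl (cox_one 4 6)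

theorem lf53 : (∀ p ∈ W53, p ∈ cert.LS) ∧ ev (fun k => el (jm [1, 2, 3, 4, 5, 6, 7, 8] k)) W53 = 1 :=
  leaf_okJ cert el [1, 2, 3, 4, 5, 6, 7, 8] hsel [6, 5, 6, 5] [7, 6, 7, 6] W53 rfl (by decide) rfl (cox_one 7 6)

theorem lf54 : (∀ p ∈ W54, p ∈ cert.LS) ∧ ev (fun k => el (jm [1, 2, 3, 4, 5, 6, 7, 8] k)) W54 = 1 :=
  leaf_okJ cert el [1, 2, 3, 4, 5, 6, 7, 8] hsel [7, 5, 7, 5] [8, 6, 8, 6] W54 rfl (by decide) rfl (cox_one 8 6)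

theorem lf55 : (∀ p ∈ W55, p ∈ cert.LS) ∧ ev (fun k => el (jm [1, 2, 3, 4, 5, 6, 7, 8] k)) W55 = 1 :=
  leaf_okJ cert el [1, 2, 3, 4, 5, 6, 7, 8] hsel [4, 5, 4, 5, 4, 5] [5, 6, 5, 6, 5, 6] W55 rfl (by decide) rfl (cox_one 5 6)

theorem lf56 : (∀ p ∈ W56, p ∈ cert.LS) ∧ ev (fun k => el (jm [1, 2, 3, 4, 5, 6, 7, 8] k)) W56 = 1 :=
  leaf_okJ cert el [1, 2, 3, 4, 5, 6, 7, 8] hsel [2, 6, 2, 6, 2, 6] [3, 7, 3, 7, 3, 7] W56 rfl (by decide) rfl (cox_one 3 7)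

theorem lf57 : (∀ p ∈ W57, p ∈ cert.LS) ∧ ev (fun k => el (jm [1, 2, 3, 4, 5, 6, 7, 8] k)) W57 = 1 :=
  leaf_okJ cert el [1, 2, 3, 4, 5, 6, 7, 8] hsel [1, 5, 1, 5] [2, 6, 2, 6] W57 rfl (by decide) rfl (cox_one 2 6)

theorem lf58 : (∀ p ∈ W58, p ∈ cert.LS) ∧ ev (fun k => el (jm [1, 2, 3, 4, 5, 6, 7, 8] k)) W58 = 1 :=
  leaf_okJ cert el [1, 2, 3, 4, 5, 6, 7, 8] hsel [3, 1, 3, 1] [4, 2, 4, 2] W58 rfl (by decide) rfl (cox_one 4 2)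

theorem lf59 : (∀ p ∈ W59, p ∈ cert.LS) ∧ ev (fun k => el (jm [1, 2, 3, 4, 5, 6, 7, 8] k)) W59 = 1 :=
  leaf_okJ cert el [1, 2, 3, 4, 5, 6, 7, 8] hsel [0, 1, 0, 1, 0, 1] [1, 2, 1, 2, 1, 2] W59 rfl (by decide) rfl (cox_one 1 2)

theorem lf60 : (∀ p ∈ W60, p ∈ cert.LS) ∧ ev (fun k => el (jm [1, 2, 3, 4, 5, 6, 7, 8] k)) W60 = 1 :=
  leaf_okJ cert el [1, 2, 3, 4, 5, 6, 7, 8] hsel [4, 3, 4, 3, 4, 3] [5, 4, 5, 4, 5, 4] W60 rfl (by decide) rfl (cox_one 5 4)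

theorem lf61 : (∀ p ∈ W61, p ∈ cert.LS) ∧ ev (fun k => el (jm [1, 2, 3, 4, 5, 6, 7, 8] k)) W61 = 1 :=
  leaf_okJ cert el [1, 2, 3, 4, 5, 6, 7, 8] hsel [6, 7, 6, 7, 6, 7] [7, 8, 7, 8, 7, 8] W61 rfl (by decide) rfl (cox_one 7 8)

theorem lf62 : (∀ p ∈ W62, p ∈ cert.LS) ∧ ev (fun k => el (jm [1, 2, 3, 4, 5, 6, 7, 8] k)) W62 = 1 :=
  leaf_okJ cert el [1, 2, 3, 4, 5, 6, 7, 8] hsel [5, 4, 5, 4, 5, 4] [6, 5, 6, 5, 6, 5] W62 rfl (by decide) rfl (cox_one 6 5)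

theorem lf63 : (∀ p ∈ W63, p ∈ cert.LS) ∧ ev (fun k => el (jm [1, 2, 3, 4, 5, 6, 7, 8] k)) W63 = 1 :=
  leaf_okJ cert el [1, 2, 3, 4, 5, 6, 7, 8] hsel [3, 0, 3, 0] [4, 1, 4, 1] W63 rfl (by decide) rfl (cox_one 4 1)

theorem lf64 : (∀ p ∈ W64, p ∈ cert.LS) ∧ ev (fun k => el (jm [1, 2, 3, 4, 5, 6, 7, 8] k)) W64 = 1 :=
  leaf_okJ cert el [1, 2, 3, 4, 5, 6, 7, 8] hsel [6, 0, 1, 2, 3, 4, 5, 6, 0, 1, 2, 3, 4, 5, 6, 0, 1, 2, 3, 4, 5, 6, 0, 1, 2, 3, 4, 5, 6, 0, 1, 2, 3, 4, 5, 6, 0, 1, 2, 3, 4, 5, 6, 0, 1, 2, 3, 4, 5, 6, 0, 1, 2, 3, 4, 5, 6, 0, 1, 2, 3, 4, 5] [7, 1, 2, 3, 4, 5, 6, 7, 1, 2, 3, 4, 5, 6, 7, 1, 2, 3, 4, 5, 6, 7, 1, 2, 3, 4, 5, 6, 7, 1, 2, 3, 4, 5, 6, 7, 1, 2, 3, 4, 5, 6, 7, 1, 2, 3, 4, 5, 6, 7, 1, 2, 3, 4, 5,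 6, 7, 1, 2, 3, 4, 5, 6] W64 rfl (by decide) rfl (evn_rot el [1, 2, 3, 4, 5, 6] [7, 1, 2, 3, 4, 5, 6, 7, 1, 2, 3, 4, 5, 6, 7, 1, 2, 3, 4, 5, 6, 7, 1, 2, 3, 4, 5, 6, 7, 1, 2, 3, 4, 5, 6, 7, 1, 2, 3, 4, 5, 6, 7, 1, 2, 3, 4, 5, 6, 7, 1, 2, 3, 4, 5, 6, 7] xg2_one)

theorem lf65 : (∀ p ∈ W65, p ∈ cert.LS) ∧ ev (fun k => el (jm [1, 2, 3, 4, 5, 6, 7, 8] k)) W65 = 1 :=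
  leaf_okJ cert el [1, 2, 3, 4, 5, 6, 7, 8] hsel [5, 6, 0, 1, 2, 3, 4, 5, 6, 0, 1, 2, 3, 4, 5, 6, 0, 1, 2, 3, 4, 5, 6, 0, 1, 2, 3, 4, 5, 6, 0, 1, 2, 3, 4, 5, 6, 0, 1, 2, 3, 4, 5, 6, 0, 1, 2, 3, 4, 5, 6, 0, 1, 2, 3, 4, 5, 6, 0, 1, 2, 3, 4] [6, 7, 1, 2, 3, 4, 5, 6, 7, 1, 2, 3, 4, 5, 6, 7, 1, 2, 3, 4, 5, 6, 7, 1, 2, 3, 4, 5, 6, 7, 1, 2, 3, 4, 5, 6, 7, 1, 2, 3, 4, 5, 6, 7, 1, 2, 3, 4, 5, 6, 7, 1, 2, 3, 4, 5, 6, 7, 1, 2, 3, 4, 5] W65 rfl (by decide) rfl (evn_rot el [1, 2, 3, 4, 5] [6, 7, 1, 2, 3, 4, 5, 6, 7, 1, 2, 3, 4, 5, 6, 7, 1, 2, 3, 4, 5, 6, 7, 1, 2, 3, 4, 5, 6, 7, 1, 2, 3, 4, 5, 6, 7, 1, 2, 3, 4, 5, 6, 7, 1, 2, 3, 4, 5, 6, 7, 1, 2, 3, 4, 5, 6, 7] xg2_one)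

theorem lf66 : (∀ p ∈ W66, p ∈ cert.LS) ∧ ev (fun k => el (jm [1, 2, 3, 4, 5, 6, 7, 8] k)) W66 = 1 :=
  leaf_okJ cert el [1, 2, 3, 4, 5, 6, 7, 8] hsel [4, 3, 2, 1, 0, 6, 5, 4, 3, 2, 1, 0, 6, 5, 4, 3, 2, 1, 0, 6, 5, 4, 3, 2, 1, 0, 6, 5, 4, 3, 2, 1, 0, 6, 5, 4, 3, 2, 1, 0, 6, 5, 4, 3, 2, 1, 0, 6, 5, 4, 3, 2, 1, 0, 6, 5, 4, 3, 2, 1, 0, 6, 5] [5, 4, 3, 2, 1, 7, 6, 5, 4, 3, 2, 1, 7, 6, 5, 4, 3, 2, 1, 7, 6, 5, 4, 3, 2, 1, 7, 6, 5, 4, 3, 2, 1, 7, 6, 5, 4, 3, 2, 1, 7, 6, 5, 4, 3, 2, 1, 7, 6, 5, 4, 3, 2, 1, 7, 6, 5, 4, 3, 2, 1, 7, 6] W66 rfl (by decide) rfl (evn_rot el [7, 6] [5, 4, 3, 2, 1, 7, 6, 5, 4, 3, 2, 1, 7, 6, 5, 4, 3, 2, 1, 7, 6, 5, 4, 3, 2, 1, 7, 6, 5, 4, 3, 2, 1, 7, 6, 5, 4, 3, 2, 1, 7, 6, 5, 4, 3, 2, 1, 7, 6, 5,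 4, 3, 2, 1, 7, 6, 5, 4, 3, 2, 1] (evn_rev el el_sq _ xg2_one))

theorem lf67 : (∀ p ∈ W67, p ∈ cert.LS) ∧ ev (fun k => el (jm [1, 2, 3, 4, 5, 6, 7, 8] k)) W67 = 1 :=
  leaf_okJ cert el [1, 2, 3, 4, 5, 6, 7, 8] hsel [2, 4, 3, 2, 0, 1, 2, 7, 6, 2, 4, 3, 2, 0, 1, 2, 7, 6, 2, 4, 3, 2, 0, 1, 2, 7, 6, 2, 4, 3, 2, 0, 1, 2, 7, 6, 2, 4, 3, 2, 0, 1, 2, 7, 6, 2, 4, 3, 2, 0, 1, 2, 7, 6, 2, 4, 3, 2, 0, 1, 2, 7, 6, 2, 4, 3, 2, 0, 1, 2, 7, 6, 2, 4, 3, 2, 0, 1, 2, 7, 6, 2, 4, 3, 2, 0, 1, 2, 7, 6] [3, 5, 4, 3, 1, 2, 3, 8, 7, 3, 5, 4, 3, 1, 2, 3, 8, 7, 3, 5, 4, 3, 1, 2, 3, 8, 7, 3, 5, 4, 3, 1, 2, 3, 8, 7, 3, 5, 4, 3, 1, 2, 3, 8, 7, 3, 5, 4, 3, 1, 2, 3, 8, 7, 3, 5, 4, 3, 1, 2, 3, 8, 7, 3, 5, 4, 3, 1, 2, 3, 8, 7, 3, 5, 4, 3, 1, 2, 3,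 8, 7, 3, 5, 4, 3, 1, 2, 3, 8, 7] W67 rfl (by decide) rfl (evn_rot el [8, 7] [3, 5, 4, 3, 1, 2, 3, 8, 7, 3, 5, 4, 3, 1, 2, 3, 8, 7, 3, 5, 4, 3, 1, 2, 3, 8, 7, 3, 5, 4, 3, 1, 2, 3, 8, 7, 3, 5, 4, 3, 1, 2, 3, 8, 7, 3, 5, 4, 3, 1, 2, 3, 8, 7, 3, 5, 4, 3, 1, 2, 3, 8, 7, 3, 5, 4, 3, 1, 2, 3, 8, 7, 3, 5, 4, 3, 1, 2, 3, 8, 7, 3, 5, 4, 3, 1, 2, 3] (evn_rev el el_sq _ xg0_one))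

theorem lf68 : (∀ p ∈ W68, p ∈ cert.LS) ∧ ev (fun k => el (jm [1, 2, 3, 4, 5, 6, 7, 8] k)) W68 = 1 :=
  leaf_okJ cert el [1, 2, 3, 4, 5, 6, 7, 8] hsel [4, 3, 2, 0, 1, 2, 7, 6, 2, 4, 3, 2, 0, 1, 2, 7, 6, 2, 4, 3, 2, 0, 1, 2, 7, 6, 2, 4, 3, 2, 0, 1, 2, 7, 6, 2, 4, 3, 2, 0, 1, 2, 7, 6, 2, 4, 3, 2, 0, 1, 2, 7, 6, 2, 4, 3, 2, 0, 1, 2, 7, 6, 2, 4, 3, 2, 0, 1, 2, 7, 6, 2, 4, 3, 2, 0, 1, 2, 7, 6, 2, 4, 3, 2, 0, 1, 2, 7, 6, 2] [5, 4, 3, 1, 2, 3, 8, 7, 3, 5, 4, 3, 1, 2, 3, 8, 7, 3, 5, 4, 3, 1, 2, 3, 8, 7, 3, 5, 4, 3, 1, 2, 3, 8, 7, 3, 5, 4, 3, 1, 2, 3, 8, 7, 3, 5, 4, 3, 1, 2, 3, 8, 7, 3, 5, 4, 3, 1, 2, 3, 8, 7, 3, 5, 4, 3, 1, 2, 3, 8, 7, 3, 5, 4, 3, 1, 2, 3, 8, 7, 3, 5, 4, 3, 1, 2, 3, 8, 7, 3] W68 rfl (by decide) rfl (evn_rot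 el [8, 7, 3] [5, 4, 3, 1, 2, 3, 8, 7, 3, 5, 4, 3, 1, 2, 3, 8, 7, 3, 5, 4, 3, 1, 2, 3, 8, 7, 3, 5, 4, 3, 1, 2, 3, 8, 7, 3, 5, 4, 3, 1, 2, 3, 8, 7, 3, 5, 4, 3, 1, 2, 3, 8, 7, 3, 5, 4, 3, 1, 2, 3, 8, 7, 3, 5, 4, 3, 1, 2, 3, 8, 7, 3, 5, 4, 3, 1, 2, 3, 8, 7, 3, 5, 4, 3, 1, 2, 3] (evn_rev el el_sq _ xg0_one))

theorem lf69 : (∀ p ∈ W69, p ∈ cert.LS) ∧ ev (fun k => el (jm [1, 2, 3, 4, 5, 6, 7, 8] k)) W69 = 1 :=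
  leaf_okJ cert el [1, 2, 3, 4, 5, 6, 7, 8] hsel [3, 4, 5, 6, 0, 1, 2, 3, 4, 5, 6, 0, 1, 2, 3, 4, 5, 6, 0, 1, 2, 3, 4, 5, 6, 0, 1, 2, 3, 4, 5, 6, 0, 1, 2, 3, 4, 5, 6, 0, 1, 2, 3, 4, 5, 6, 0, 1, 2, 3, 4, 5, 6, 0, 1, 2, 3, 4, 5, 6, 0, 1, 2] [4, 5, 6, 7, 1, 2, 3, 4, 5, 6, 7, 1, 2, 3, 4, 5, 6, 7, 1, 2, 3, 4, 5, 6, 7, 1, 2, 3, 4, 5, 6, 7, 1, 2, 3, 4, 5, 6, 7, 1, 2, 3, 4, 5, 6, 7, 1, 2, 3, 4, 5, 6, 7, 1, 2, 3, 4, 5, 6, 7, 1, 2, 3] W69 rfl (by decide) rfl (evn_rot el [1, 2, 3] [4, 5, 6, 7, 1, 2, 3, 4, 5, 6, 7, 1, 2, 3, 4, 5, 6, 7, 1, 2, 3, 4, 5, 6, 7, 1, 2, 3, 4, 5, 6, 7, 1, 2, 3, 4, 5, 6, 7, 1, 2, 3, 4, 5, 6, 7, 1, 2, 3, 4, 5, 6, 7, 1, 2, 3, 4, 5, 6, 7] xg2_one)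

theorem lf70 : (∀ p ∈ W70, p ∈ cert.LS) ∧ ev (fun k => el (jm [1, 2, 3, 4, 5, 6, 7, 8] k)) W70 = 1 :=
  leaf_okJ cert el [1, 2, 3, 4, 5, 6, 7, 8] hsel [6, 5, 4, 3, 2, 1, 0, 6, 5, 4, 3, 2, 1, 0, 6, 5, 4, 3, 2, 1, 0, 6, 5, 4, 3, 2, 1, 0, 6, 5, 4, 3, 2, 1, 0, 6, 5, 4, 3, 2, 1, 0, 6, 5, 4, 3, 2, 1, 0, 6, 5, 4, 3, 2, 1, 0, 6, 5, 4, 3, 2, 1, 0] [7, 6, 5, 4, 3, 2, 1, 7, 6, 5, 4, 3, 2, 1, 7, 6, 5, 4, 3, 2, 1, 7, 6, 5, 4, 3, 2, 1, 7, 6, 5, 4, 3, 2, 1, 7, 6, 5, 4, 3, 2, 1, 7, 6, 5, 4, 3, 2, 1, 7, 6, 5, 4, 3, 2, 1, 7, 6, 5, 4, 3, 2, 1] W70 rfl (by decide) rfl (evn_rot el [] [7, 6, 5, 4, 3, 2, 1, 7, 6, 5, 4, 3, 2, 1, 7, 6, 5, 4, 3, 2, 1, 7, 6, 5, 4, 3, 2, 1, 7, 6, 5, 4, 3, 2, 1, 7, 6, 5, 4, 3, 2, 1, 7, 6, 5, 4, 3, 2, 1, 7, 6,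 5, 4, 3, 2, 1, 7, 6, 5, 4, 3, 2, 1] (evn_rev el el_sq _ xg2_one))

theorem lf71 : (∀ p ∈ W71, p ∈ cert.LS) ∧ ev (fun k => el (jm [1, 2, 3, 4, 5, 6, 7, 8] k)) W71 = 1 :=
  leaf_okJ cert el [1, 2, 3, 4, 5, 6, 7, 8] hsel [6, 2, 4, 3, 2, 0, 1, 2, 7, 6, 2, 4, 3, 2, 0, 1, 2, 7, 6, 2, 4, 3, 2, 0, 1, 2, 7, 6, 2, 4, 3, 2, 0, 1, 2, 7, 6, 2, 4, 3, 2, 0, 1, 2, 7, 6, 2, 4, 3, 2, 0, 1, 2, 7, 6, 2, 4, 3, 2, 0, 1, 2, 7, 6, 2, 4, 3, 2, 0, 1, 2, 7, 6, 2, 4, 3, 2, 0, 1, 2, 7, 6, 2, 4, 3, 2, 0, 1, 2, 7] [7, 3, 5, 4, 3, 1, 2, 3, 8, 7, 3, 5, 4, 3, 1, 2, 3, 8, 7, 3, 5, 4, 3, 1, 2, 3, 8, 7, 3, 5, 4, 3, 1, 2, 3, 8, 7, 3, 5, 4, 3, 1, 2, 3, 8, 7, 3, 5, 4, 3, 1, 2, 3, 8, 7, 3, 5, 4, 3, 1, 2, 3, 8, 7, 3, 5, 4, 3, 1, 2, 3, 8, 7, 3, 5, 4, 3, 1,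 2, 3, 8, 7, 3, 5, 4, 3, 1, 2, 3, 8] W71 rfl (by decide) rfl (evn_rot el [8] [7, 3, 5, 4, 3, 1, 2, 3, 8, 7, 3, 5, 4, 3, 1, 2, 3, 8, 7, 3, 5, 4, 3, 1, 2, 3, 8, 7, 3, 5, 4, 3, 1, 2, 3, 8, 7, 3, 5, 4, 3, 1, 2, 3, 8, 7, 3, 5, 4, 3, 1, 2, 3, 8, 7, 3, 5, 4, 3, 1, 2, 3, 8, 7, 3, 5, 4, 3, 1, 2, 3, 8, 7, 3, 5, 4, 3, 1, 2, 3, 8, 7, 3, 5, 4, 3, 1, 2, 3] (evn_rev el el_sq _ xg0_one))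

theorem tree_ok : cert.tree.All (fun W => (∀ p ∈ W, p ∈ cert.LS) ∧ ev (fun k => el (jm [1, 2, 3, 4, 5, 6, 7, 8] k)) W = 1) :=
  ⟨⟨⟨⟨⟨⟨⟨lf0, lf64⟩, lf32⟩, ⟨lf16, lf48⟩⟩, ⟨⟨lf8, lf40⟩, ⟨lf24, lf56⟩⟩⟩, ⟨⟨⟨⟨lf4, lf68⟩, lf36⟩, ⟨lf20, lf52⟩⟩, ⟨⟨lf12, lf44⟩, ⟨lf28, lf60⟩⟩⟩⟩, ⟨⟨⟨⟨⟨lf2, lf66⟩, lf34⟩, ⟨lf18, lf50⟩⟩, ⟨⟨lf10, lf42⟩, ⟨lf26, lf58⟩⟩⟩, ⟨⟨⟨⟨lf6, lf70⟩, lf38⟩, ⟨lf22, lf54⟩⟩, ⟨⟨lf14, lf46⟩, ⟨lf30, lf62⟩⟩⟩⟩⟩, ⟨⟨⟨⟨⟨⟨lf1, lf65⟩, lf33⟩, ⟨lf17, lf49⟩⟩, ⟨⟨lf9, lf41⟩, ⟨lf25, lf57⟩⟩⟩, ⟨⟨⟨⟨lf5, lf69⟩, lf37⟩, ⟨lf21, lf53⟩⟩, ⟨⟨lf13, lf45⟩, ⟨lf29, lf61⟩⟩⟩⟩, ⟨⟨⟨⟨⟨lf3, lf67⟩, lf35⟩, ⟨lf19, lf51⟩⟩, ⟨⟨lf11, lf43⟩, ⟨lf27, lf59⟩⟩⟩, ⟨⟨⟨⟨lf7, lf71⟩, lf39⟩, ⟨lf23, lf55⟩⟩, ⟨⟨lf15, lf47⟩, ⟨lf31, lf63⟩⟩⟩⟩⟩⟩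

theorem subs_ok : AllS (fun XZ : List Letter × List Letter => (∀ p ∈ XZ.1, p ∈ cert.LS) ∧ (∀ p ∈ XZ.2, p ∈ cert.LS) ∧
    ev (fun k => el (jm [1, 2, 3, 4, 5, 6, 7, 8] k)) XZ.1 * ev (fun k => el (jm [1, 2, 3, 4, 5, 6, 7, 8] k)) XZ.2 ∈ KK el [1, 2, 3, 4, 5, 6, 7]) cert.subs :=
  ⟨sub_ok cert _ (KK el [1, 2, 3, 4, 5, 6, 7]) hsel [] [0] _ _ rfl rfl (by decide) (sub_memJ el [1, 2, 3, 4, 5, 6, 7, 8] [1, 2, 3, 4, 5, 6, 7] 0 (by decide)), sub_ok cert _ (KK el [1, 2, 3, 4, 5, 6, 7]) hsel [] [1] _ _ rfl rfl (by decide) (sub_memJ el [1, 2, 3, 4, 5, 6, 7, 8] [1, 2, 3, 4, 5, 6, 7] 1 (by decide)), sub_ok cert _ (KK el [1, 2, 3, 4, 5, 6, 7]) hsel [] [2] _ _ rfl rfl (by decide) (sub_memJ el [1, 2, 3, 4, 5, 6, 7, 8] [1, 2, 3, 4, 5,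 6, 7] 2 (by decide)), sub_ok cert _ (KK el [1, 2, 3, 4, 5, 6, 7]) hsel [] [3] _ _ rfl rfl (by decide) (sub_memJ el [1, 2, 3, 4, 5, 6, 7, 8] [1, 2, 3, 4, 5, 6, 7] 3 (by decide)), sub_ok cert _ (KK el [1, 2, 3, 4, 5, 6, 7]) hsel [] [4] _ _ rfl rfl (by decide) (sub_memJ el [1, 2, 3, 4, 5, 6, 7, 8] [1, 2, 3, 4, 5, 6, 7] 4 (by decide)), sub_ok cert _ (KK el [1, 2, 3, 4, 5, 6, 7]) hsel [] [5] _ _ rfl rfl (by decide) (sub_memJ el [1, 2, 3, 4, 5, 6, 7, 8] [1, 2, 3, 4, 5, 6, 7] 5 (by decide)), sub_ok cert _ (KK el [1, 2, 3, 4, 5, 6, 7]) hsel [] [6] _ _ rfl rfl (by decide) (sub_memJ el [1, 2, 3, 4, 5, 6, 7, 8] [1, 2, 3, 4, 5, 6, 7] 6 (by decide)), trivial⟩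

theorem hyp : Hyp cert (KK el [1, 2, 3, 4, 5, 6, 7]) (fun k => el (jm [1, 2, 3, 4, 5, 6, 7, 8] k)) := ⟨tree_ok, forall_of_allS subs_ok⟩

theorem hrow : ∀ a < cert.M, row cert a = true := by
  intro a ha
  have ha' : a < 6951 := ha
  rcases Nat.lt_or_ge a 1000 with h0 | h0
  · exact loop_spec row_ok0 a (by omega) (by omega)
  rcases Nat.lt_or_ge a 2000 with h1 | h1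
  · exact loop_spec row_ok1 a (by omega) (by omega)
  rcases Nat.lt_or_ge a 3000 with h2 | h2
  · exact loop_spec row_ok2 a (by omega) (by omega)
  rcases Nat.lt_or_ge a 4000 with h3 | h3
  · exact loop_spec row_ok3 a (by omega) (by omega)
  rcases Nat.lt_or_ge a 5000 with h4 | h4
  · exact loop_spec row_ok4 a (by omega) (by omega)
  rcases Nat.lt_or_ge a 6000 with h5 | h5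
  · exact loop_spec row_ok5 a (by omega) (by omega)
  exact loop_spec row_ok6 a (by omega) (by omega)

theorem ub (hf : Finite (KK el [1, 2, 3, 4, 5, 6, 7])) : Finite (KK el [1, 2, 3, 4, 5, 6, 7, 8]) ∧ Nat.card (KK el [1, 2, 3, 4, 5, 6, 7, 8]) ≤ 3159 * Nat.card (KK el [1, 2, 3, 4, 5, 6, 7]) :=
  ub_stepJ el [1, 2, 3, 4, 5, 6, 7, 8] [1, 2, 3, 4, 5, 6, 7] el_sq hyp al0 hrow rfl cnt hf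

end Cfsg.Agent.Lib.Helper19.OrdFi22.U0
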