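import Cfsg.Agent.Lib.Helper19.PresFi22
import Cfsg.Agent.Lib.Helper19.TC2P

/-! Generated file: certificates for the order of a presented group. -/

set_option autoImplicit false
set_option maxRecDepth 1000000

namespace Cfsg.Agent.Lib.Helper19.OrdFi22.U4

open Cfsg.Agent.Lib.Helper19.TCS (evn evn_rot evn_rev evn_pair AllS forall_of_allS lift_rels mk_eq_lift cox_swap shapeI prod_rep index_of_equiv orbit_ncard orbit_image ncard_interval fix_of_closure RC)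
open Cfsg.Agent.Lib.Helper19.TC2
open Cfsg.Spor Cfsg.Agent.Lib.Helper19.PresFi22

noncomputable section

def T0 : Tb := (.leaf 0x232c5a79a0)
def J0 : Tb := (.leaf 0xa00014040e)
def L0 : Letter := (0, T0, J0)
def T1 : Tb := (.leaf 0xc424b7198)
def J1 : Tb := (.leaf 0xd03800060f)
def L1 : Letter := (1, T1, J1)
def T2 : Tb := (.leaf 0x1c33616a90)
def J2 : Tb := (.leaf 0xb048100010)
def L2 : Letter := (2, T2, J2)
def T3 : Tb := (.leaf 0x143b528089)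
def J3 : Tb := (.leaf 0xc040180200)
def L3 : Letter := (3, T3, J3)
def tC : Tb := (.leaf 0x0)
def tJC : Tb := (.leaf 0x0)
def tPP : Tb := (.leaf 0x103854463100)
def W0 : List Letter := [L3, L3]
def W1 : List Letter := [L0, L3, L0, L3]
def W2 : List Letter := [L1, L3, L1, L3]
def W3 : List Letter := [L2, L2]
def W4 : List Letter := [L0, L2, L0, L2]
def W5 : List Letter := [L3, L2, L3, L2, L3, L2]
def W6 : List Letter := [L1, L1]
def W7 : List Letter := [L3, L1, L3, L1]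
def W8 : List Letter := [L2, L1, L2, L1, L2, L1]
def W9 : List Letter := [L0, L0]
def W10 : List Letter := [L2, L0, L2, L0]
def W11 : List Letter := [L3, L0, L3, L0]
def W12 : List Letter := [L1, L0, L1, L0, L1, L0]
def wtree : Tr := (.node (.node (.node (.node (.leaf W0) (.leaf W8)) (.node (.leaf W4) (.leaf W12))) (.node (.node (.leaf W2) (.leaf W10)) (.leaf W6))) (.node (.node (.node (.leaf W1) (.leaf W9)) (.leaf W5)) (.node (.node (.leaf W3) (.leaf W11)) (.leaf W7))))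
def wsubs : List (List Letter × List Letter) := [([], [L0]), ([], [L1]), ([], [L2])]
def cert : Par := { w := 3, mw := 7, w5 := 8, fw := 8, mf := 255, jw := 9, mj := 511, k := 6, km := 63, C := tC, JC := tJC, PP := tPP, D := 1, M := 5, R := 13, S := 17, tree := wtree, subs := wsubs, LS := [L0, L1, L2, L3] }

end

theorem al0 : al cert 0 = true := by decide +kernel

theorem cnt : cntA (al cert) 5 0 = 5 := by decide +kernel

theorem row_ok0 : loop (row cert) 0 5 = true := by decide +kernel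

theorem hsel : ∀ k < cert.LS.length, (sel cert.LS k).1 = k := by decide

theorem lf0 : (∀ p ∈ W0, p ∈ cert.LS) ∧ ev (fun k => el (jm [2, 3, 4, 5] k)) W0 = 1 :=
  leaf_okJ cert el [2, 3, 4, 5] hsel [3, 3] [5, 5] W0 rfl (by decide) rfl (evn_pair el el_sq 5)

theorem lf1 : (∀ p ∈ W1, p ∈ cert.LS) ∧ ev (fun k => el (jm [2, 3, 4, 5] k)) W1 = 1 :=
  leaf_okJ cert el [2, 3, 4, 5] hsel [0, 3, 0, 3] [2, 5, 2, 5] W1 rfl (by decide) rfl (cox_one 2 5)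

theorem lf2 : (∀ p ∈ W2, p ∈ cert.LS) ∧ ev (fun k => el (jm [2, 3, 4, 5] k)) W2 = 1 :=
  leaf_okJ cert el [2, 3, 4, 5] hsel [1, 3, 1, 3] [3, 5, 3, 5] W2 rfl (by decide) rfl (cox_one 3 5)

theorem lf3 : (∀ p ∈ W3, p ∈ cert.LS) ∧ ev (fun k => el (jm [2, 3, 4, 5] k)) W3 = 1 :=
  leaf_okJ cert el [2, 3, 4, 5] hsel [2, 2] [4, 4] W3 rfl (by decide) rfl (evn_pair el el_sq 4)

theorem lf4 : (∀ p ∈ W4, p ∈ cert.LS) ∧ ev (fun k => el (jm [2, 3, 4, 5] k)) W4 = 1 :=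
  leaf_okJ cert el [2, 3, 4, 5] hsel [0, 2, 0, 2] [2, 4, 2, 4] W4 rfl (by decide) rfl (cox_one 2 4)

theorem lf5 : (∀ p ∈ W5, p ∈ cert.LS) ∧ ev (fun k => el (jm [2, 3, 4, 5] k)) W5 = 1 :=
  leaf_okJ cert el [2, 3, 4, 5] hsel [3, 2, 3, 2, 3, 2] [5, 4, 5, 4, 5, 4] W5 rfl (by decide) rfl (cox_one 5 4)

theorem lf6 : (∀ p ∈ W6, p ∈ cert.LS) ∧ ev (fun k => el (jm [2, 3, 4, 5] k)) W6 = 1 :=
  leaf_okJ cert el [2, 3, 4, 5] hsel [1, 1] [3, 3] W6 rfl (by decide) rfl (evn_pair el el_sq 3)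

theorem lf7 : (∀ p ∈ W7, p ∈ cert.LS) ∧ ev (fun k => el (jm [2, 3, 4, 5] k)) W7 = 1 :=
  leaf_okJ cert el [2, 3, 4, 5] hsel [3, 1, 3, 1] [5, 3, 5, 3] W7 rfl (by decide) rfl (cox_one 5 3)

theorem lf8 : (∀ p ∈ W8, p ∈ cert.LS) ∧ ev (fun k => el (jm [2, 3, 4, 5] k)) W8 = 1 :=
  leaf_okJ cert el [2, 3, 4, 5] hsel [2, 1, 2, 1, 2, 1] [4, 3, 4, 3, 4, 3] W8 rfl (by decide) rfl (cox_one 4 3)

theorem lf9 : (∀ p ∈ W9, p ∈ cert.LS) ∧ ev (fun k => el (jm [2, 3, 4, 5] k)) W9 = 1 :=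
  leaf_okJ cert el [2, 3, 4, 5] hsel [0, 0] [2, 2] W9 rfl (by decide) rfl (evn_pair el el_sq 2)

theorem lf10 : (∀ p ∈ W10, p ∈ cert.LS) ∧ ev (fun k => el (jm [2, 3, 4, 5] k)) W10 = 1 :=
  leaf_okJ cert el [2, 3, 4, 5] hsel [2, 0, 2, 0] [4, 2, 4, 2] W10 rfl (by decide) rfl (cox_one 4 2)

theorem lf11 : (∀ p ∈ W11, p ∈ cert.LS) ∧ ev (fun k => el (jm [2, 3, 4, 5] k)) W11 = 1 :=
  leaf_okJ cert el [2, 3, 4, 5] hsel [3, 0, 3, 0] [5, 2, 5, 2] W11 rfl (by decide) rfl (cox_one 5 2)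

theorem lf12 : (∀ p ∈ W12, p ∈ cert.LS) ∧ ev (fun k => el (jm [2, 3, 4, 5] k)) W12 = 1 :=
  leaf_okJ cert el [2, 3, 4, 5] hsel [1, 0, 1, 0, 1, 0] [3, 2, 3, 2, 3, 2] W12 rfl (by decide) rfl (cox_one 3 2)

theorem tree_ok : cert.tree.All (fun W => (∀ p ∈ W, p ∈ cert.LS) ∧ ev (fun k => el (jm [2, 3, 4, 5] k)) W = 1) :=
  ⟨⟨⟨⟨lf0, lf8⟩, ⟨lf4, lf12⟩⟩, ⟨⟨lf2, lf10⟩, lf6⟩⟩, ⟨⟨⟨lf1, lf9⟩, lf5⟩, ⟨⟨lf3, lf11⟩, lf7⟩⟩⟩

theorem subs_ok : AllS (fun XZ : List Letter × List Letter => (∀ p ∈ XZ.1, p ∈ cert.LS) ∧ (∀ p ∈ XZ.2, p ∈ cert.LS) ∧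
    ev (fun k => el (jm [2, 3, 4, 5] k)) XZ.1 * ev (fun k => el (jm [2, 3, 4, 5] k)) XZ.2 ∈ KK el [2, 3, 4]) cert.subs :=
  ⟨sub_ok cert _ (KK el [2, 3, 4]) hsel [] [0] _ _ rfl rfl (by decide) (sub_memJ el [2, 3, 4, 5] [2, 3, 4] 0 (by decide)), sub_ok cert _ (KK el [2, 3, 4]) hsel [] [1] _ _ rfl rfl (by decide) (sub_memJ el [2, 3, 4, 5] [2, 3, 4] 1 (by decide)), sub_ok cert _ (KK el [2, 3, 4]) hsel [] [2] _ _ rfl rfl (by decide) (sub_memJ el [2, 3, 4, 5] [2, 3, 4] 2 (by decide)), trivial⟩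

theorem hyp : Hyp cert (KK el [2, 3, 4]) (fun k => el (jm [2, 3, 4, 5] k)) := ⟨tree_ok, forall_of_allS subs_ok⟩

theorem hrow : ∀ a < cert.M, row cert a = true := by
  intro a ha
  have ha' : a < 5 := ha
  exact loop_spec row_ok0 a (by omega) (by omega)

theorem ub (hf : Finite (KK el [2, 3, 4])) : Finite (KK el [2, 3, 4, 5]) ∧ Nat.card (KK el [2, 3, 4, 5]) ≤ 5 * Nat.card (KK el [2, 3, 4]) :=
  ub_stepJ el [2, 3, 4, 5] [2, 3, 4] el_sq hyp al0 hrow rfl cnt hf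

end Cfsg.Agent.Lib.Helper19.OrdFi22.U4
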